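import Mathlib

/-! The stabilizer of a partition (given by the fibres of a map) in a symmetric group. -/

set_option autoImplicit false

namespace CfsgLib.SymMax

open Equiv Equiv.Perm

variable {Ω β : Type*}

/-- The permutations preserving the partition of `Ω` into the fibres of `f`. -/
def partStab (f : Ω → β) : Subgroup (Perm Ω) where
  carrier := {g | ∀ x y : Ω, f x = f y ↔ f (g x) = f (g y)}
  one_mem' := fun _ _ => Iff.rfl
  mul_mem' := fun {a b} ha hb x y => (hb x y).trans (ha _ _)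
  inv_mem' := fun {a} ha x y => by
    have := ha (a⁻¹ x) (a⁻¹ y)
    simpa using this.symm

theorem mem_partStab {f : Ω → β} {g : Perm Ω} :
    g ∈ partStab f ↔ ∀ x y : Ω, f x = f y ↔ f (g x) = f (g y) := Iff.rfl

theorem closure_eq_partStab (f : Ω → β) :
    Subgroup.closure {g : Perm Ω | ∀ x y : Ω, f x = f y ↔ f (g x) = f (g y)} = partStab f :=
  Subgroup.closure_eq (partStab f)

theorem mem_partStab_of_comp {f : Ω → β} {g : Perm Ω} (σ : β → β) (hσ : Function.Injective σ)
    (h : ∀ x, f (g x) = σ (f x)) : g ∈ partStab f := fun x y => by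
  rw [h, h, hσ.eq_iff]

theorem apply_swap_eq [DecidableEq Ω] {f : Ω → β} {x y : Ω} (h : f x = f y) (z : Ω) :
    f (swap x y z) = f z := by
  rw [swap_apply_def]
  split_ifs with h1 h2
  · rw [h1, h]
  · rw [h2, h]
  · rfl

theorem swap_mem_partStab [DecidableEq Ω] {f : Ω → β} {x y : Ω} (h : f x = f y) :
    swap x y ∈ partStab f :=
  mem_partStab_of_comp id Function.injective_id (apply_swap_eq h)

theorem exists_lift [Finite Ω] {f : Ω → β} {a : ℕ} (hf : ∀ i, Nat.card {x : Ω // f x = i} = a)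
    (σ : Perm β) : ∃ g : Perm Ω, ∀ x, f (g x) = σ (f x) := by
  have : ∀ c, Nonempty ({x : Ω // σ (f x) = c} ≃ {x : Ω // f x = c}) := by
    intro c
    rw [← Finite.card_eq, hf, ← hf (σ.symm c)]
    exact Nat.card_congr (Equiv.subtypeEquivRight fun x => (Equiv.eq_symm_apply σ).symm)
  exact ⟨Equiv.ofFiberEquiv (f := fun x => σ (f x)) (g := f) fun c => (this c).some,
    fun x => Equiv.ofFiberEquiv_map _ x⟩

theorem exists_not_preserved {f : Ω → β} {G : Subgroup (Perm Ω)} {g : Perm Ω} (hg : g ∈ G)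
    (hgK : g ∉ partStab f) : ∃ g ∈ G, ∃ x y, f x = f y ∧ f (g x) ≠ f (g y) := by
  rw [mem_partStab] at hgK
  push Not at hgK
  obtain ⟨x, y, h | h⟩ := hgK
  · exact ⟨g, hg, x, y, h⟩
  · exact ⟨g⁻¹, G.inv_mem hg, g x, g y, h.2, by simpa using h.1⟩

/-- Two distinct points in a fibre of size at least two. -/
theorem exists_pair_in_fibre [Finite Ω] {f : Ω → β} {i : β} (h : 2 ≤ Nat.card {x : Ω // f x = i}) :
    ∃ x y, x ≠ y ∧ f x = i ∧ f y = i := by
  have : Nontrivial {x : Ω // f x = i} := Finite.one_lt_card_iff_nontrivial.1 h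
  obtain ⟨x, y, hxy⟩ := exists_pair_ne {x : Ω // f x = i}
  exact ⟨x, y, fun h => hxy (Subtype.ext h), x.2, y.2⟩

theorem exists_ne_in_fibre [Finite Ω] {f : Ω → β} (u : Ω) (h : 2 ≤ Nat.card {x : Ω // f x = f u}) :
    ∃ y, y ≠ u ∧ f y = f u := by
  obtain ⟨x, y, hxy, hx, hy⟩ := exists_pair_in_fibre h
  by_cases hxu : x = u
  · exact ⟨y, fun h => hxy (hxu.trans h.symm), hy⟩
  · exact ⟨x, hxu, hx⟩

theorem exists_pair_ne_in_fibre [Finite Ω] {f : Ω → β} (u : Ω)
    (h : 3 ≤ Nat.card {x : Ω // f x = f u}) :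
    ∃ y z, y ≠ z ∧ y ≠ u ∧ z ≠ u ∧ f y = f u ∧ f z = f u := by
  classical
  have := Fintype.ofFinite {x : Ω // f x = f u}
  rw [Nat.card_eq_fintype_card] at h
  obtain ⟨x, y, z, hxy, hxz, hyz⟩ := Fintype.two_lt_card_iff.1 h
  rw [Ne, Subtype.ext_iff] at hxy hxz hyz
  by_cases hx : (x : Ω) = u
  · exact ⟨y, z, hyz, fun h => hxy (hx.trans h.symm), fun h => hxz (hx.trans h.symm), y.2, z.2⟩
  by_cases hy : (y : Ω) = u
  · exact ⟨x, z, hxz, hx, fun h => hyz (hy.trans h.symm), x.2, z.2⟩
  · exact ⟨x, y, hxy, hx, hy, x.2, y.2⟩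

section
variable [Finite Ω] [DecidableEq Ω] {f : Ω → β} {a : ℕ}

/-- Transitivity on ordered pairs of points in different blocks. -/
theorem exists_map_pair_diff (hf : ∀ i, Nat.card {x : Ω // f x = i} = a) {u v u' v' : Ω}
    (h : f u ≠ f v) (h' : f u' ≠ f v') : ∃ k ∈ partStab f, k u = u' ∧ k v = v' := by
  classical
  obtain ⟨σ, h1, h2⟩ : ∃ σ : Perm β, σ (f u) = f u' ∧ σ (f v) = f v' := by
    refine ⟨swap (swap (f u) (f u') (f v)) (f v') * swap (f u) (f u'), ?_, by simp⟩
    rw [Perm.mul_apply, swap_apply_left, swap_apply_of_ne_of_ne _ h']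
    intro hh
    rw [eq_comm, swap_apply_eq_iff, swap_apply_right] at hh
    exact h hh.symm
  obtain ⟨g, hg⟩ := exists_lift hf σ
  have hgK : g ∈ partStab f := mem_partStab_of_comp σ σ.injective hg
  have e1 : f (g u) = f u' := by rw [hg, h1]
  have e2 : f (g v) = f v' := by rw [hg, h2]
  refine ⟨swap (g v) v' * swap (g u) u' * g,
    mul_mem (mul_mem (swap_mem_partStab e2) (swap_mem_partStab e1)) hgK, ?_, ?_⟩
  · simp only [Perm.mul_apply, swap_apply_left]
    apply swap_apply_of_ne_of_ne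
    · intro hh; apply h'; rw [hh, e2]
    · intro hh; apply h'; rw [hh]
  · simp only [Perm.mul_apply]
    rw [swap_apply_of_ne_of_ne (x := g v), swap_apply_left]
    · intro hh; apply h'; rw [← e1, ← e2, hh]
    · intro hh; apply h'; rw [← e2, hh]

/-- Transitivity on ordered pairs of distinct points in the same block. -/
theorem exists_map_pair_same (hf : ∀ i, Nat.card {x : Ω // f x = i} = a) {u v u' v' : Ω}
    (huv : u ≠ v) (huv' : u' ≠ v') (h : f u = f v) (h' : f u' = f v') :
    ∃ k ∈ partStab f, k u = u' ∧ k v = v' := by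
  classical
  obtain ⟨g, hg⟩ := exists_lift hf (swap (f u) (f u'))
  have hgK : g ∈ partStab f := mem_partStab_of_comp _ (swap (f u) (f u')).injective hg
  have e1 : f (g u) = f u' := by rw [hg, swap_apply_left]
  have e2 : f (g v) = f v' := by rw [hg, ← h, swap_apply_left, h']
  have e3 : f (swap (g u) u' (g v)) = f v' := by rw [apply_swap_eq e1, e2]
  refine ⟨swap (swap (g u) u' (g v)) v' * swap (g u) u' * g,
    mul_mem (mul_mem (swap_mem_partStab e3) (swap_mem_partStab e1)) hgK, ?_, by simp⟩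
  simp only [Perm.mul_apply, swap_apply_left]
  apply swap_apply_of_ne_of_ne _ huv'
  intro hh
  rw [eq_comm, swap_apply_eq_iff, swap_apply_right] at hh
  exact huv (g.injective hh).symm

end

/-- A group containing enough of the partition stabilizer and an element outside is 2-transitive. -/
theorem two_transitive_of_pairs {f : Ω → β} {G : Subgroup (Perm Ω)}
    (hdiff : ∀ u v u' v', f u ≠ f v → f u' ≠ f v' → ∃ k ∈ G, k u = u' ∧ k v = v')
    (hsame : ∀ u v u' v', u ≠ v → u' ≠ v' → f u = f v → f u' = f v' → ∃ k ∈ G, k u = u' ∧ k v = v')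
    {g : Perm Ω} (hg : g ∈ G) (hgK : g ∉ partStab f) :
    MulAction.IsMultiplyPretransitive G Ω 2 := by
  obtain ⟨g, hg, x, y, hxy, hgxy⟩ := exists_not_preserved hg hgK
  have hne : x ≠ y := fun h => hgxy (by rw [h])
  have key : ∀ u v, u ≠ v → ∃ k ∈ G, k x = u ∧ k y = v := by
    intro u v huv
    by_cases h : f u = f v
    · exact hsame x y u v hne huv hxy h
    · obtain ⟨k, hk, h1, h2⟩ := hdiff (g x) (g y) u v hgxy h
      exact ⟨k * g, mul_mem hk hg, h1, h2⟩
  rw [MulAction.is_two_pretransitive_iff]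
  intro u v u' v' h h'
  obtain ⟨k, hk, h1, h2⟩ := key u v h
  obtain ⟨k', hk', h1', h2'⟩ := key u' v' h'
  refine ⟨⟨k' * k⁻¹, mul_mem hk' (inv_mem hk)⟩, ?_, ?_⟩
  · change (k' * k⁻¹) u = u'
    rw [← h1, ← h1']; simp
  · change (k' * k⁻¹) v = v'
    rw [← h2, ← h2']; simp

theorem partStab_ne_top [DecidableEq Ω] {f : Ω → β} {u u' v : Ω} (h1 : u ≠ u') (h2 : f u = f u')
    (h3 : f u ≠ f v) : partStab f ≠ ⊤ := by
  intro h
  have : swap u v ∈ partStab f := h ▸ Subgroup.mem_top _
  have h4 := (this u u').1 h2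
  rw [swap_apply_left, swap_apply_of_ne_of_ne h1.symm (fun h => h3 (by rw [← h, h2]))] at h4
  exact h3 (h2.trans h4.symm)

/-- The stabilizer of a uniform partition with at least two blocks of size at least two is maximal. -/
theorem isCoatom_partStab [Finite Ω] [Nontrivial β] {f : Ω → β} {a : ℕ} (ha : 2 ≤ a)
    (hf : ∀ i, Nat.card {x : Ω // f x = i} = a) : IsCoatom (partStab f) := by
  classical
  have := Fintype.ofFinite Ω
  obtain ⟨i, j, hij⟩ := exists_pair_ne β
  obtain ⟨u, u', huu', hu, hu'⟩ := exists_pair_in_fibre (f := f) (i := i) (by rw [hf]; exact ha)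
  obtain ⟨v, -, -, hv, -⟩ := exists_pair_in_fibre (f := f) (i := j) (by rw [hf]; exact ha)
  refine ⟨partStab_ne_top (v := v) huu' (hu.trans hu'.symm) (by rw [hu, hv]; exact hij), fun G hG => ?_⟩
  obtain ⟨g, hg, hgK⟩ := SetLike.exists_of_lt hG
  have h2 : MulAction.IsMultiplyPretransitive G Ω 2 := by
    refine two_transitive_of_pairs ?_ ?_ hg hgK
    · intro u v u' v' h h'
      obtain ⟨k, hk, h1⟩ := exists_map_pair_diff hf h h'
      exact ⟨k, hG.le hk, h1⟩
    · intro u v u' v' h h' e e'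
      obtain ⟨k, hk, h1⟩ := exists_map_pair_same hf h h' e e'
      exact ⟨k, hG.le hk, h1⟩
  have h3 : MulAction.IsPreprimitive G Ω := MulAction.isPreprimitive_of_is_two_pretransitive h2
  exact subgroup_eq_top_of_isPreprimitive_of_isSwap_mem h3 (swap u u') (swap_isSwap_iff.2 huu')
    (hG.le (swap_mem_partStab (hu.trans hu'.symm)))

/-- A subgroup with a strictly intermediate subgroup is not maximal. -/
theorem not_isCoatom_subgroupOf {G : Type*} [Group G] {H S K : Subgroup G} (h1 : H < S) (h2 : S < K) :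
    ¬ IsCoatom (H.subgroupOf K) := by
  intro h
  have h3 : H.subgroupOf K < S.subgroupOf K := by
    refine lt_of_le_of_ne (Subgroup.comap_mono h1.le) fun h4 => ?_
    obtain ⟨x, hx, hxH⟩ := SetLike.exists_of_lt h1
    have : (⟨x, h2.le hx⟩ : K) ∈ S.subgroupOf K := hx
    rw [← h4] at this
    exact hxH this
  have := h.2 _ h3
  rw [Subgroup.subgroupOf_eq_top] at this
  exact h2.not_ge this

/-- Maximality of `H ⊓ K` in `K`, in terms of subgroups of the ambient group. -/
theorem isCoatom_subgroupOf_iff {G : Type*} [Group G] {H K : Subgroup G} :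
    IsCoatom (H.subgroupOf K) ↔ ¬ K ≤ H ∧ ∀ L : Subgroup G, H ⊓ K < L → L ≤ K → L = K := by
  constructor
  · intro h
    refine ⟨fun hh => h.1 (Subgroup.subgroupOf_eq_top.2 hh), fun L h1 h2 => ?_⟩
    by_contra hne
    apply not_isCoatom_subgroupOf h1 (lt_of_le_of_ne h2 hne)
    rwa [Subgroup.inf_subgroupOf_right]
  · rintro ⟨h1, h2⟩
    refine ⟨fun hh => h1 (Subgroup.subgroupOf_eq_top.1 hh), fun L hL => ?_⟩
    have h3 : H ⊓ K < L.map K.subtype := by
      rw [← Subgroup.subgroupOf_map_subtype]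
      exact (Subgroup.map_lt_map_iff_of_injective K.subtype_injective).2 hL
    have h4 := h2 _ h3 (Subgroup.map_subtype_le _)
    apply Subgroup.map_injective K.subtype_injective
    rw [h4, ← MonoidHom.range_eq_map, Subgroup.range_subtype]

end CfsgLib.SymMax
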